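import Groth.Agent.EtModShriek.Indep
import Groth.Agent.EtModAcyc.ProperBC
import Groth.Agent.EtPushStalk.UnivInj
import Groth.Agent.EtPushStalk.OpenImm
import Groth.Agent.EtPBC.CdPush
import Mathlib

/-!
`R i_! ⊣ i^* R Γ_Z` for a closed immersion `i`, sheaves of modules.
-/

set_option autoImplicit false
set_option backward.isDefEq.respectTransparency false
set_option backward.isDefEq.respectTransparency.types false
set_option linter.style.haveILetI false
set_option linter.unusedSectionVars false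
set_option linter.overlappingInstances false
set_option maxHeartbeats 1000000

universe u v₁ v₂ u₁ u₂

open CategoryTheory CategoryTheory.Limits AlgebraicGeometry Opposite

attribute [local instance] HasDerivedCategory.standard

noncomputable section

namespace Groth.Agent.EtModShriek

open Groth.Agent.EtModAcyc (F₀)

/-- exact functors have no higher derived functors -/
theorem isZero_rightDerived_of_exact {A : Type u₁} [Category.{v₁} A] [Abelian A] [EnoughInjectives A]
    {B : Type u₂} [Category.{v₂} B] [Abelian B] (F : A ⥤ B) [F.Additive] [PreservesFiniteLimits F]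
    [PreservesFiniteColimits F] (X : A) (p : ℕ) (hp : 0 < p) : IsZero ((F.rightDerived p).obj X) := by
  obtain ⟨n, rfl⟩ := Nat.exists_eq_succ_of_ne_zero hp.ne'
  exact BigSiteLib.isZero_rightDerived_of_class F (fun _ => True)
    (fun S hS _ _ => ⟨(hS.map_of_exact F).epi_g, trivial⟩) X trivial n

variable (Λ : Type (u + 1)) [CommRing Λ]

theorem forget_faithful (X : Scheme.{u}) : (F₀ Λ X).Faithful :=
  ⟨fun {A B} a b h => Sheaf.hom_ext (NatTrans.ext (funext fun U =>
    (forget₂ (ModuleCat.{u + 1} Λ) AddCommGrpCat.{u + 1}).map_injective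
      (congrArg (fun m : (F₀ Λ X).obj A ⟶ (F₀ Λ X).obj B => m.hom.app U) h)))⟩

theorem isZero_of_forget {X : Scheme.{u}} {M : EtModW.Mod Λ X} (h : IsZero ((F₀ Λ X).obj M)) : IsZero M := by
  haveI := forget_faithful Λ X
  haveI := (EtModAcyc.forget_exact Λ X).2.2.1
  rw [IsZero.iff_id_eq_zero]
  exact (F₀ Λ X).map_injective (h.eq_of_src _ _)

/-- counits agree -/
theorem isIso_counit_mod {Z X : Scheme.{u}} (i : Z ⟶ X) [IsImmersion i] (hL : EtPushStalk.LiftProp i)
    (G : EtModW.Mod Λ Z) : IsIso ((EtSix.pullPushModAdj Λ i).counit.app G) := by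
  obtain ⟨_, _, _, _⟩ := EtModAcyc.forget_exact Λ Z
  haveI := ModCstAcyc.isIso_pullCmp Λ (EtCoh.bc i) (J := X.smallEtaleTopology) (K := Z.smallEtaleTopology)
    ((EtModW.push Λ i).obj G)
  haveI : IsIso ((F₀ Λ Z).map ((EtSix.pullPushModAdj Λ i).counit.app G)) := by
    have e := ModCstAcyc.pullCmp_transpose Λ (EtCoh.bc i) (J := X.smallEtaleTopology) (K := Z.smallEtaleTopology)
      ((EtModW.push Λ i).obj G) ((EtSix.pullPushModAdj Λ i).counit.app G)
    have h1 : (EtSix.pullPushModAdj Λ i).homEquiv _ _ ((EtSix.pullPushModAdj Λ i).counit.app G) =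
        𝟙 ((EtModW.push Λ i).obj G) := by
      rw [Adjunction.homEquiv_unit]
      exact (EtSix.pullPushModAdj Λ i).right_triangle_components G
    have e' : ((EtCoh.pullPushAdj i).homEquiv ((F₀ Λ X).obj ((EtModW.push Λ i).obj G)) ((F₀ Λ Z).obj G)).symm
        ((F₀ Λ X).map ((EtSix.pullPushModAdj Λ i).homEquiv _ _ ((EtSix.pullPushModAdj Λ i).counit.app G))) =
        (EtCoh.pullPushAdj i).counit.app ((F₀ Λ Z).obj G) :=
      (Equiv.symm_apply_eq _).2 ((((F₀ Λ X).congr_map h1).trans ((F₀ Λ X).map_id _)).trans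
        (((EtCoh.pullPushAdj i).homEquiv_unit _ _ _).trans
          ((EtCoh.pullPushAdj i).right_triangle_components ((F₀ Λ Z).obj G))).symm)
    haveI : IsIso ((EtCoh.pullPushAdj i).counit.app ((F₀ Λ Z).obj G)) := EtPushStalk.isIso_counit i hL _
    haveI : IsIso (EtModAcyc.τ Λ i ((EtModW.push Λ i).obj G) ≫
        (F₀ Λ Z).map ((EtSix.pullPushModAdj Λ i).counit.app G)) := by
      rw [show EtModAcyc.τ Λ i ((EtModW.push Λ i).obj G) ≫
          (F₀ Λ Z).map ((EtSix.pullPushModAdj Λ i).counit.app G) =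
          (EtCoh.pullPushAdj i).counit.app ((F₀ Λ Z).obj G) from e.trans e']
      infer_instance
    haveI : IsIso (EtModAcyc.τ Λ i ((EtModW.push Λ i).obj G)) := ‹_›
    exact IsIso.of_isIso_comp_left (EtModAcyc.τ Λ i ((EtModW.push Λ i).obj G)) _
  exact isIso_of_reflects_iso _ (F₀ Λ Z)

variable {Z X U : Scheme.{u}} (i : Z ⟶ X) [IsClosedImmersion i] (j : U ⟶ X) [IsOpenImmersion j]
  (hij : Set.range j.base = (Set.range i.base)ᶜ)

include hij in
theorem isZero_pull_push (G : EtModW.Mod Λ Z) : IsZero ((EtModW.pull Λ j).obj ((EtModW.push Λ i).obj G)) := by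
  refine isZero_of_forget Λ ?_
  haveI := ModCstAcyc.isIso_pullCmp Λ (EtCoh.bc j) (J := X.smallEtaleTopology) (K := U.smallEtaleTopology)
    ((EtModW.push Λ i).obj G)
  refine IsZero.of_iso ?_ (asIso (EtModAcyc.τ Λ j ((EtModW.push Λ i).obj G))).symm
  refine EtPBC.isZero_of_isZero_stalks _ fun Ω _ _ ξ => ?_
  refine IsZero.of_iso ?_ ((EtStalk.stalkPullIso j ξ).app _).symm
  show IsZero ((EtCoh.stalk (ξ ≫ j)).obj ((EtCoh.push i).obj ((F₀ Λ Z).obj G)))
  refine EtStalk.isZero_stalk_push i _ _ (EtPushStalk.disjoint_of_not_mem i (ξ ≫ j) ?_)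
  have : (ξ ≫ j) (default : Spec (CommRingCat.of Ω)) ∈ Set.range j.base := ⟨ξ default, rfl⟩
  rw [hij] at this
  exact this

/-- maps from `i_* G` to `j_* M` vanish -/
theorem hom_eq_zero (hij : Set.range j.base = (Set.range i.base)ᶜ) (G : EtModW.Mod Λ Z) (M : EtModW.Mod Λ U)
    (φ : (EtModW.push Λ i).obj G ⟶ (EtModW.push Λ j).obj M) : φ = 0 :=
  ((EtSix.pullPushModAdj Λ j).homEquiv _ _).symm.injective
    ((isZero_pull_push Λ i j hij G).eq_of_src _ _)

/-- the kernel of the unit is killed by restriction -/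
theorem isZero_pull_secSupp (F : EtModW.Mod Λ X) :
    IsZero ((EtModW.pull Λ j).obj ((EtDl.secSuppMod Λ j).obj F)) := by
  haveI := RPlusComp.pullMod_preservesFiniteLimits Λ j
  haveI := isIso_counit_mod Λ j (EtPushStalk.liftProp_of_openImmersion j)
  have hiso : IsIso ((EtModW.pull Λ j).map (EtDl.unitMod Λ j F)) := by
    have h := (EtSix.pullPushModAdj Λ j).left_triangle_components F
    haveI : IsIso ((EtModW.pull Λ j).map (EtDl.unitMod Λ j F) ≫
        (EtSix.pullPushModAdj Λ j).counit.app ((EtModW.pull Λ j).obj F)) := by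
      rw [show _ = _ from h]; exact IsIso.id _
    exact IsIso.of_isIso_comp_right _ ((EtSix.pullPushModAdj Λ j).counit.app ((EtModW.pull Λ j).obj F))
  haveI : (EtModW.pull Λ j).PreservesMonomorphisms := inferInstance
  let ι : (EtDl.secSuppMod Λ j).obj F ⟶ F := kernel.ι (EtDl.unitMod Λ j F)
  haveI : Mono ι := inferInstanceAs (Mono (kernel.ι _))
  have hm : Mono ((EtModW.pull Λ j).map ι) := inferInstance
  have hz : (EtModW.pull Λ j).map ι ≫ (EtModW.pull Λ j).map (EtDl.unitMod Λ j F) = 0 :=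
    ((EtModW.pull Λ j).map_comp ι (EtDl.unitMod Λ j F)).symm.trans
      (((EtModW.pull Λ j).congr_map (kernel.condition (EtDl.unitMod Λ j F))).trans ((EtModW.pull Λ j).map_zero _ _))
  have hz' : (0 : (EtModW.pull Λ j).obj ((EtDl.secSuppMod Λ j).obj F) ⟶ (EtModW.pull Λ j).obj F) ≫
      (EtModW.pull Λ j).map (EtDl.unitMod Λ j F) = 0 := zero_comp
  have hu : Mono ((EtModW.pull Λ j).map (EtDl.unitMod Λ j F)) :=
    @IsSplitMono.mono _ _ _ _ _ (@IsSplitMono.of_iso _ _ _ _ _ hiso)
  have h0 : (EtModW.pull Λ j).map ι = 0 :=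
    hu.right_cancellation _ _ (hz.trans hz'.symm)
  rw [IsZero.iff_id_eq_zero]
  exact (cancel_mono ((EtModW.pull Λ j).map ι)).1 ((Category.id_comp _).trans (h0.trans zero_comp.symm))

include hij in
theorem isIso_unit_secSupp (F : EtModW.Mod Λ X) :
    IsIso ((EtSix.pullPushModAdj Λ i).unit.app ((EtDl.secSuppMod Λ j).obj F)) := by
  obtain ⟨_, _, _, _⟩ := EtModAcyc.forget_exact Λ X
  let M := (EtDl.secSuppMod Λ j).obj F
  haveI : IsIso ((EtCoh.pullPushAdj i).unit.app ((F₀ Λ X).obj M)) := by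
    have hout : ∀ (Ω : Type u) [Field Ω] [IsSepClosed Ω] (ξ : Spec (CommRingCat.of Ω) ⟶ X),
        ξ (default : Spec (CommRingCat.of Ω)) ∉ Set.range i → IsZero ((EtCoh.stalk ξ).obj ((F₀ Λ X).obj M)) := by
      intro Ω _ _ ξ hξ
      have hr : Set.range ξ ⊆ Set.range j := by
        rintro _ ⟨y, rfl⟩
        rw [Subsingleton.elim (α := Spec (CommRingCat.of Ω)) y default,
          show Set.range j = (Set.range i)ᶜ from hij]
        exact hξ
      rw [← IsOpenImmersion.lift_fac j ξ hr]
      haveI := ModCstAcyc.isIso_pullCmp Λ (EtCoh.bc j) (J := X.smallEtaleTopology) (K := U.smallEtaleTopology) M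
      refine IsZero.of_iso ?_ ((EtStalk.stalkPullIso j _).app _)
      haveI := (EtModAcyc.forget_exact Λ U).2.2.1
      exact Functor.map_isZero (EtCoh.stalk _)
        (((F₀ Λ U).map_isZero (isZero_pull_secSupp Λ j F)).of_iso (asIso (EtModAcyc.τ Λ j M)))
    refine (Groth.Agent.EtStalk.isIso_iff _).mpr fun Ω _ _ ξ => ?_
    obtain ⟨_, _⟩ := EtPushStalk.push_fullyFaithful i (EtPushStalk.liftProp_of_closedImmersion i)
    obtain ⟨G, ⟨e⟩⟩ := (EtPushStalk.essImage_closedImmersion i ((F₀ Λ X).obj M)).2 hout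
    haveI : IsIso ((EtCoh.pullPushAdj i).unit.app ((F₀ Λ X).obj M)) :=
      (EtCoh.pullPushAdj i).isIso_unit_app_of_iso e.symm
    infer_instance
  haveI := ModCstAcyc.isIso_pullCmp Λ (EtCoh.bc i) (J := X.smallEtaleTopology) (K := Z.smallEtaleTopology) M
  haveI : IsIso (EtModAcyc.τ Λ i M) := ‹_›
  haveI : IsIso ((F₀ Λ X).map ((EtSix.pullPushModAdj Λ i).unit.app M)) := by
    rw [show (F₀ Λ X).map ((EtSix.pullPushModAdj Λ i).unit.app M) =
        (EtCoh.pullPushAdj i).unit.app ((F₀ Λ X).obj M) ≫ (EtCoh.push i).map (EtModAcyc.τ Λ i M) from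
      (((EtCoh.pullPushAdj i).homEquiv ((F₀ Λ X).obj M) ((F₀ Λ Z).obj ((EtModW.pull Λ i).obj M))).apply_symm_apply
        ((F₀ Λ X).map ((EtSix.pullPushModAdj Λ i).unit.app M))).symm.trans
          (Adjunction.homEquiv_unit (EtCoh.pullPushAdj i) _ _ _)]
    infer_instance
  exact isIso_of_reflects_iso _ (F₀ Λ X)

/-- the inclusion of the sections with support -/
abbrev suppι (F : EtModW.Mod Λ X) : (EtDl.secSuppMod Λ j).obj F ⟶ F := kernel.ι (EtDl.unitMod Λ j F)

/-- **`i_* ⊣ i^* Γ_Z`** -/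
def pushSuppAdj : EtModW.push Λ i ⊣ EtDl.secSuppMod Λ j ⋙ EtModW.pull Λ i :=
  haveI : ∀ G, IsIso ((EtSix.pullPushModAdj Λ i).counit.app G) :=
    isIso_counit_mod Λ i (EtPushStalk.liftProp_of_closedImmersion i)
  haveI : ∀ F, IsIso ((EtSix.pullPushModAdj Λ i).unit.app ((EtDl.secSuppMod Λ j).obj F)) :=
    isIso_unit_secSupp Λ i j hij
  haveI : IsIso (EtSix.pullPushModAdj Λ i).counit := NatIso.isIso_of_isIso_app _
  let a := EtSix.pullPushModAdj Λ i
  Adjunction.mkOfHomEquiv
    { homEquiv := fun G F =>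
        { toFun := fun φ => inv (a.counit.app G) ≫ (EtModW.pull Λ i).map
            (kernel.lift (EtDl.unitMod Λ j F) φ (hom_eq_zero Λ i j hij G _ _))
          invFun := fun ψ => (EtModW.push Λ i).map ψ ≫ inv (a.unit.app ((EtDl.secSuppMod Λ j).obj F)) ≫ suppι Λ j F
          left_inv := fun φ => by
            dsimp only
            let l : (EtModW.push Λ i).obj G ⟶ (EtDl.secSuppMod Λ j).obj F :=
              kernel.lift (EtDl.unitMod Λ j F) φ (hom_eq_zero Λ i j hij G _ _)
            haveI : IsIso (a.unit.app ((EtModW.push Λ i).obj G)) := by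
              haveI : IsIso (a.unit.app ((EtModW.push Λ i).obj G) ≫ (EtModW.push Λ i).map (a.counit.app G)) := by
                rw [a.right_triangle_components]; exact IsIso.id _
              exact IsIso.of_isIso_comp_right _ ((EtModW.push Λ i).map (a.counit.app G))
            have e : (EtModW.push Λ i).map (inv (a.counit.app G)) = a.unit.app ((EtModW.push Λ i).obj G) := by
              rw [Functor.map_inv]
              exact IsIso.inv_eq_of_inv_hom_id (a.right_triangle_components G)
            show (EtModW.push Λ i).map (inv (a.counit.app G) ≫ (EtModW.pull Λ i).map l) ≫ _ = φ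
            rw [Functor.map_comp, e, Category.assoc]
            erw [← a.unit.naturality_assoc l, IsIso.hom_inv_id_assoc]
            exact kernel.lift_ι _ _ _
          right_inv := fun ψ => by
            dsimp only
            let l := (EtModW.push Λ i).map ψ ≫ inv (a.unit.app ((EtDl.secSuppMod Λ j).obj F))
            have hl : kernel.lift (EtDl.unitMod Λ j F)
                ((EtModW.push Λ i).map ψ ≫ inv (a.unit.app ((EtDl.secSuppMod Λ j).obj F)) ≫ suppι Λ j F)
                (hom_eq_zero Λ i j hij G _ _) = l := by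
              refine (cancel_mono (suppι Λ j F)).1 ((kernel.lift_ι _ _ _).trans ?_)
              simp only [l, Category.assoc]
            rw [hl, IsIso.inv_comp_eq]
            apply (a.homEquiv _ _).injective
            show a.homEquiv _ _ ((EtModW.pull Λ i).map l) = a.homEquiv _ _ (a.counit.app G ≫ ψ)
            rw [Adjunction.homEquiv_unit, Adjunction.homEquiv_unit]
            refine (a.unit.naturality l).symm.trans ?_
            have e1 : l ≫ a.unit.app ((EtDl.secSuppMod Λ j).obj F) = (EtModW.push Λ i).map ψ := by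
              simp [l]
            have e2 : a.unit.app ((EtModW.push Λ i).obj G) ≫ (EtModW.push Λ i).map (a.counit.app G ≫ ψ) =
                (EtModW.push Λ i).map ψ := by
              rw [Functor.map_comp]
              exact a.right_triangle_components_assoc G _
            exact e1.trans e2.symm }
      homEquiv_naturality_left_symm := fun f g => by
        simp [Functor.map_comp, Category.assoc]
      homEquiv_naturality_right := fun {G F F'} φ a' => by
        simp only [Equiv.coe_fn_mk, Functor.comp_map, Category.assoc, ← Functor.map_comp]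
        congr 2
        refine (cancel_mono (suppι Λ j F')).1 ((kernel.lift_ι _ _ _).trans ?_)
        simp [EtDl.secSuppMod, suppι, kernel.map] }

theorem pushMod_preservesFiniteColimits : PreservesFiniteColimits (EtModW.push Λ i) := by
  obtain ⟨_, _, _, _⟩ := EtModAcyc.forget_exact Λ Z
  obtain ⟨_, _, _, _⟩ := EtModAcyc.forget_exact Λ X
  haveI := EtPushStalk.univInj_preservesFiniteColimits i
  haveI : PreservesFiniteColimits (EtModW.push Λ i ⋙ F₀ Λ X) :=
    inferInstanceAs (PreservesFiniteColimits (F₀ Λ Z ⋙ EtCoh.push i))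
  exact preservesFiniteColimits_of_reflects_of_preserves _ (F₀ Λ X)

include hij in
/-- **`R i_! ⊣ i^* R Γ_Z`** on `D⁺` -/
theorem nonempty_adj_closed [CompactSpace ↥Z] [QuasiSeparatedSpace ↥X] (c : DEt.Compactification i) (n : ℕ)
    (hn : 0 < n) (hΛ : (n : Λ) = 0) :
    Nonempty (EtDl.RshriekPlus Λ c ⊣ EtDl.secSuppPlus Λ j ⋙ EtDl.pullPlus Λ i) := by
  let c₀ : DEt.Compactification i := ⟨Z, 𝟙 Z, i, inferInstance, inferInstance, Category.id_comp i⟩
  obtain ⟨e₁⟩ := nonempty_indep Λ n hn hΛ c c₀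
  haveI := pushMod_preservesFiniteColimits Λ i
  haveI := pushMod_preservesFiniteLimits Λ i
  haveI : (EtModW.push Λ i).Additive := inferInstance
  let adj := pushSuppAdj Λ i j hij
  obtain ⟨aD⟩ := RPlusComp.nonempty_adjPlus adj
  haveI := RPlusComp.pullMod_preservesFiniteLimits Λ i
  haveI : PreservesFiniteColimits (EtModW.pull Λ i) :=
    haveI : (EtModW.pull Λ i).IsLeftAdjoint := (EtSix.pullPushModAdj Λ i).isLeftAdjoint
    inferInstance
  let e₂ : EtDl.secSuppPlus Λ j ⋙ EtDl.pullPlus Λ i ≅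
      (EtDl.secSuppMod Λ j ⋙ EtModW.pull Λ i).rightDerivedFunctorPlus :=
    compPlusIso (fun M _ p hp => isZero_rightDerived_of_exact _ _ p hp) (Iso.refl _)
  let ec : EtShriek.compEtale (𝟙 Z) ≅ 𝟭 Z.Etale := MorphismProperty.Over.mapId (P := EtCoh.etaleMP) (Q := ⊤) Z
  let r : EtDl.extZeroMod Λ (𝟙 Z) ≅ 𝟭 (EtModW.Mod Λ Z) :=
    (EtDl.extZeroModAdj Λ (𝟙 Z)).leftAdjointUniq (Adjunction.id.ofNatIsoRight
      (Functor.sheafPushforwardContinuousId' ec
        (ModuleCat.{u + 1} Λ) Z.smallEtaleTopology).symm)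
  let e₀ : EtDl.RshriekPlus Λ c₀ ≅ (EtModW.push Λ i).rightDerivedFunctorPlus :=
    compPlusIso (fun M _ p hp => isZero_rightDerived_of_exact _ _ p hp)
      ((Functor.isoWhiskerRight r (EtModW.push Λ i) ≪≫ Functor.leftUnitor _).symm)
  exact ⟨(aD.ofNatIsoLeft (e₀.symm ≪≫ e₁.symm)).ofNatIsoRight e₂.symm⟩

end Groth.Agent.EtModShriek
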