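import Groth.Agent.EtModShriek.Indep
import Groth.Agent.EtModShriek.Closed
import Groth.Agent.EtModAcyc.ProperBC
import Groth.Agent.EtPushStalk.ShriekBC
import Mathlib

/-!
Base change for `R f_!` on `D⁺` of sheaves of modules, and its adjoint form.
-/

set_option autoImplicit false
set_option backward.isDefEq.respectTransparency false
set_option backward.isDefEq.respectTransparency.types false
set_option linter.style.haveILetI false
set_option linter.unusedSectionVars false
set_option linter.overlappingInstances false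
set_option maxHeartbeats 1000000

universe u

open CategoryTheory CategoryTheory.Limits AlgebraicGeometry Opposite

attribute [local instance] HasDerivedCategory.standard

noncomputable section

namespace Groth.Agent.EtModShriek

variable (Λ : Type (u + 1)) [CommRing Λ]

section Open

variable {V' V Y X : Scheme.{u}} (j : V ⟶ X) [Etale j] (f : Y ⟶ X) (j' : V' ⟶ Y) [Etale j'] (f' : V' ⟶ V)
  (h : IsPullback j' f' f j) [EtShriek.JCont j] [EtShriek.JCont j']

/-- restriction commutes with direct image -/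
def restrPushModIso : EtDl.restrMod Λ j' ⋙ EtModW.push Λ f' ≅ EtModW.push Λ f ⋙ EtDl.restrMod Λ j :=
  NatIso.ofComponents
    (fun F => (fullyFaithfulSheafToPresheaf _ _).preimageIso
      (Functor.isoWhiskerRight (NatIso.op (EtPushStalk.bcCompIso j f j' f' h)) F.obj))
    (fun {F G} a => by
      refine Sheaf.hom_ext (NatTrans.ext (funext fun W => ?_))
      exact (a.hom.naturality _).symm)

/-- extension by zero commutes with inverse image -/
def shriekPullModIso : EtModW.pull Λ f' ⋙ EtDl.extZeroMod Λ j' ≅ EtDl.extZeroMod Λ j ⋙ EtModW.pull Λ f :=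
  ((EtSix.pullPushModAdj Λ f').comp (EtDl.extZeroModAdj Λ j')).leftAdjointUniq
    (((EtDl.extZeroModAdj Λ j).comp (EtSix.pullPushModAdj Λ f)).ofNatIsoRight (restrPushModIso Λ j f j' f' h).symm)

theorem nonempty_shriekPull_plus (h : IsPullback j' f' f j) :
    Nonempty (EtDl.extZeroPlus Λ j ⋙ EtDl.pullPlus Λ f ≅ EtDl.pullPlus Λ f' ⋙ EtDl.extZeroPlus Λ j') := by
  haveI := RPlusComp.pullMod_preservesFiniteLimits Λ f
  haveI := RPlusComp.pullMod_preservesFiniteLimits Λ f'
  haveI := EtModAcyc.extZeroMod_preservesFiniteLimits Λ j'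
  haveI : PreservesFiniteColimits (EtModW.pull Λ f) :=
    haveI : (EtModW.pull Λ f).IsLeftAdjoint := (EtSix.pullPushModAdj Λ f).isLeftAdjoint
    inferInstance
  haveI : PreservesFiniteColimits (EtDl.extZeroMod Λ j') :=
    haveI : (EtDl.extZeroMod Λ j').IsLeftAdjoint := (EtDl.extZeroModAdj Λ j').isLeftAdjoint
    inferInstance
  exact ⟨compPlusIso (fun M _ p hp => isZero_rightDerived_of_exact _ _ p hp) (Iso.refl _) ≪≫
    (compPlusIso (fun M _ p hp => isZero_rightDerived_of_exact _ _ p hp) (shriekPullModIso Λ j f j' f' h).symm).symm⟩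

end Open

variable (n : ℕ) (hn : 0 < n) (hΛ : (n : Λ) = 0)

include hn hΛ in
/-- proper base change as an isomorphism of functors -/
theorem nonempty_bc_proper {X S X' S' : Scheme.{u}} (f : X ⟶ S) [IsProper f] (g : S' ⟶ S) (f' : X' ⟶ S')
    (g' : X' ⟶ X) (hc : IsPullback g' f' f g) :
    Nonempty (EtDl.pushPlus Λ f ⋙ EtDl.pullPlus Λ g ≅ EtDl.pullPlus Λ g' ⋙ EtDl.pushPlus Λ f') := by
  obtain ⟨adj⟩ := RPlusComp.nonempty_pullPlus_adj Λ g
  haveI : ∀ K, IsIso (EtSix.bcMapMod Λ f g f' g' hc.w adj K) := fun K =>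
    EtModAcyc.isIso_bcMapMod Λ f g f' g' hc adj K fun i => EtModAcyc.isTorsion_forget Λ n hn hΛ _
  refine ⟨NatIso.ofComponents (fun K => asIso (EtSix.bcMapMod Λ f g f' g' hc.w adj K)) fun {K K'} a => ?_⟩
  simp only [Functor.comp_map, asIso_hom, EtSix.bcMapMod]
  exact ((adj.homEquiv_naturality_left_symm _ _).symm.trans
    (congrArg (adj.homEquiv _ _).symm ((EtSix.bcAdjMod Λ f g f' g' hc.w).naturality a))).trans
      (adj.homEquiv_naturality_right_symm _ _)

include hn hΛ in
/-- **base change for `R f_!`** -/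
theorem nonempty_bc_shriek {X S X' S' : Scheme.{u}} [CompactSpace ↥X'] [QuasiSeparatedSpace ↥S'] {f : X ⟶ S}
    (c : DEt.Compactification f) {f' : X' ⟶ S'} (c' : DEt.Compactification f') (g : S' ⟶ S) (g' : X' ⟶ X)
    (h : IsPullback g' f' f g) :
    Nonempty (EtDl.RshriekPlus Λ c ⋙ EtDl.pullPlus Λ g ≅ EtDl.pullPlus Λ g' ⋙ EtDl.RshriekPlus Λ c') := by
  haveI := c.isOpenImmersion
  haveI := c.isProper
  have t := IsPullback.of_hasPullback c.fbar g
  have s : IsPullback g' f' (c.j ≫ c.fbar) g := by rw [c.fac]; exact h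
  have hq := IsPullback.of_bot' s t
  set j' := t.lift (g' ≫ c.j) f' (by rw [Category.assoc, s.w]) with hj'
  haveI : IsOpenImmersion j' := MorphismProperty.of_isPullback hq inferInstance
  let c₁ : DEt.Compactification f' :=
    ⟨pullback c.fbar g, j', pullback.snd c.fbar g, inferInstance,
      MorphismProperty.of_isPullback (P := @IsProper) t inferInstance, t.lift_snd _ _ _⟩
  obtain ⟨e₀⟩ := nonempty_indep Λ n hn hΛ c₁ c'
  obtain ⟨e₁⟩ := nonempty_bc_proper Λ n hn hΛ c.fbar g (pullback.snd c.fbar g) (pullback.fst c.fbar g) t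
  obtain ⟨e₂⟩ := nonempty_shriekPull_plus Λ c.j (pullback.fst c.fbar g) j' g' hq.flip
  exact ⟨Functor.associator _ _ _ ≪≫ Functor.isoWhiskerLeft _ e₁ ≪≫ (Functor.associator _ _ _).symm ≪≫
    Functor.isoWhiskerRight e₂ _ ≪≫ Functor.associator _ _ _ ≪≫ Functor.isoWhiskerLeft _ e₀⟩

include hn hΛ in
/-- **`R g'_* ∘ R f'^! = R f^! ∘ R g_*`** -/
theorem nonempty_upperShriek_push {X S X' S' : Scheme.{u}} [CompactSpace ↥X'] [QuasiSeparatedSpace ↥S'] {f : X ⟶ S}
    (c : DEt.Compactification f) {f' : X' ⟶ S'} (c' : DEt.Compactification f') (g : S' ⟶ S) (g' : X' ⟶ X)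
    (h : IsPullback g' f' f g)
    (G : DerivedCategory.Plus (EtModW.Mod Λ S) ⥤ DerivedCategory.Plus (EtModW.Mod Λ X))
    (adj : EtDl.RshriekPlus Λ c ⊣ G)
    (G' : DerivedCategory.Plus (EtModW.Mod Λ S') ⥤ DerivedCategory.Plus (EtModW.Mod Λ X'))
    (adj' : EtDl.RshriekPlus Λ c' ⊣ G') :
    Nonempty (G' ⋙ EtDl.pushPlus Λ g' ≅ EtDl.pushPlus Λ g ⋙ G) := by
  obtain ⟨ag⟩ := RPlusComp.nonempty_pullPlus_adj Λ g
  obtain ⟨ag'⟩ := RPlusComp.nonempty_pullPlus_adj Λ g'
  obtain ⟨e⟩ := nonempty_bc_shriek Λ n hn hΛ c c' g g' h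
  exact ⟨((ag'.comp adj').ofNatIsoLeft e.symm).rightAdjointUniq (adj.comp ag)⟩

end Groth.Agent.EtModShriek
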