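import Groth.Agent.EtModShriek.Lift
import Groth.Agent.ShriekLQF.Compact
import Groth.Agent.ShriekLQF.Etale
import Groth.Agent.EtPBC.ShriekProper
import Groth.Agent.FpqcDescent.Sep
import Groth.Agent.EtRshriek.Dominate
import Groth.Agent.RPlusComp.Etale
import Groth.Agent.RPlusComp.Adjunction
import Mathlib

/-!
`R π_* ∘ j_! = (π j)_!` for sheaves of modules, `π` proper and `π j` etale.
-/

set_option autoImplicit false
set_option backward.isDefEq.respectTransparency false
set_option backward.isDefEq.respectTransparency.types false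
set_option linter.style.haveILetI false
set_option linter.unusedSectionVars false
set_option linter.overlappingInstances false
set_option maxHeartbeats 1000000

universe u v₁ v₂ v₃ u₁ u₂ u₃

open CategoryTheory CategoryTheory.Limits AlgebraicGeometry Opposite

attribute [local instance] HasDerivedCategory.standard

noncomputable section

namespace Groth.Agent.EtModShriek

open Groth.Agent.EtModAcyc (F₀)

section General

variable {A : Type u₁} [Category.{v₁} A] [Abelian A] {B : Type u₂} [Category.{v₂} B] [Abelian B]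
  {C : Type u₃} [Category.{v₃} C] [Abelian C]
  [EnoughInjectives A] [EnoughInjectives B]

/-- composition of derived functors: the first functor takes injectives to acyclic objects -/
theorem isIso_rPlusDesc₂ {F : A ⥤ B} {G : B ⥤ C} {H : A ⥤ C} [F.Additive] [G.Additive] [H.Additive]
    [PreservesFiniteLimits G]
    (hF : ∀ X : A, Injective X → ∀ p : ℕ, 0 < p → IsZero ((G.rightDerived p).obj (F.obj X)))
    (θ : H ⟶ F ⋙ G) [IsIso θ] : IsIso (EtSix.rPlusDesc₂ θ) := by
  haveI hp : IsIso (EtSix.plusNatTrans θ) := by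
    haveI : IsIso (NatTrans.mapHomotopyCategory θ (ComplexShape.up ℤ)) := by
      refine ⟨⟨NatTrans.mapHomotopyCategory (inv θ) _, ?_, ?_⟩⟩ <;>
        rw [← NatTrans.mapHomotopyCategory_comp] <;> simp
    let W := (Functor.whiskeringRight (HomotopyCategory.Plus A) _ _).obj (HomotopyCategory.plus C).ι
    let ff : W.FullyFaithful := (HomotopyCategory.plus C).fullyFaithfulι.whiskeringRight _
    haveI : IsIso (W.map (EtSix.plusNatTrans θ)) := by
      rw [show W.map (EtSix.plusNatTrans θ) = Functor.whiskerLeft (HomotopyCategory.Plus.ι A)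
        (NatTrans.mapHomotopyCategory θ (ComplexShape.up ℤ)) from ff.map_preimage _]
      exact inferInstanceAs (IsIso (((Functor.whiskeringLeft _ _ _).obj (HomotopyCategory.Plus.ι A)).map _))
    exact ff.isIso_of_isIso_map _
  rw [NatTrans.isIso_iff_isIso_app]
  intro D
  obtain ⟨n, hn⟩ : ∃ n : ℤ, D.IsGE n := by
    obtain ⟨n, hn⟩ := D.property
    exact ⟨n, (D.isGE_ι_obj_iff n).1 hn⟩
  obtain ⟨L, _, ⟨e⟩⟩ := DerivedCategory.Plus.exists_injective_nonempty_iso D n
  let I := (InjectiveObject.ι A).mapCochainComplexPlus.obj L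
  let K := (HomotopyCategory.Plus.quotient A).obj I
  let e' : DerivedCategory.Plus.Qh.obj K ≅ D := e
  refine (NatTrans.isIso_app_iff_of_iso (EtSix.rPlusDesc₂ θ) e').1 ?_
  have hfac : H.rightDerivedFunctorPlusUnit.app K ≫
      (EtSix.rPlusDesc₂ θ).app (DerivedCategory.Plus.Qh.obj K) = (EtSix.rPlusUnit₂ θ).app K :=
    Functor.rightDerived_fac_app _ _ _ _ _ _
  haveI : IsIso (H.rightDerivedFunctorPlusUnit.app K) := inferInstanceAs (IsIso
    (H.rightDerivedFunctorPlusUnit.app ((HomotopyCategory.Plus.quotient A).obj I)))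
  haveI hFK : IsIso (F.rightDerivedFunctorPlusUnit.app K) := inferInstanceAs (IsIso
    (F.rightDerivedFunctorPlusUnit.app ((HomotopyCategory.Plus.quotient A).obj I)))
  haveI hGK : IsIso (G.rightDerivedFunctorPlusUnit.app (F.mapHomotopyCategoryPlus.obj K)) := by
    let i : F.mapHomotopyCategoryPlus.obj K ≅
        (HomotopyCategory.Plus.quotient B).obj (F.mapCochainComplexPlus.obj I) :=
      ObjectProperty.isoMk _ (Iso.refl _)
    refine (NatTrans.isIso_app_iff_of_iso G.rightDerivedFunctorPlusUnit i).2 ?_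
    exact DerPlus.leray G _ fun m p hp => hF (I.obj.X m) (L.obj.X m).property p hp
  haveI : IsIso ((EtSix.rPlusUnit₂ θ).app K) := by
    dsimp [EtSix.rPlusUnit₂]
    infer_instance
  exact IsIso.of_isIso_fac_left hfac

/-- the composition isomorphism -/
def compPlusIso {F : A ⥤ B} {G : B ⥤ C} {H : A ⥤ C} [F.Additive] [G.Additive] [H.Additive]
    [PreservesFiniteLimits G]
    (hF : ∀ X : A, Injective X → ∀ p : ℕ, 0 < p → IsZero ((G.rightDerived p).obj (F.obj X)))
    (θ : H ≅ F ⋙ G) :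
    F.rightDerivedFunctorPlus ⋙ G.rightDerivedFunctorPlus ≅ H.rightDerivedFunctorPlus :=
  haveI := isIso_rPlusDesc₂ hF θ.hom
  (asIso (EtSix.rPlusDesc₂ θ.hom)).symm

end General

variable (Λ : Type (u + 1)) [CommRing Λ]

theorem pushMod_preservesFiniteLimits {X Y : Scheme.{u}} (f : X ⟶ Y) :
    PreservesFiniteLimits (EtModW.push Λ f) :=
  haveI : (EtModW.push Λ f).IsRightAdjoint := (EtSix.pullPushModAdj Λ f).isRightAdjoint
  inferInstance

/-- acyclicity for direct images is detected on underlying abelian sheaves -/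
theorem isZero_rightDerived_pushMod {X Y : Scheme.{u}} (f : X ⟶ Y) (M : EtModW.Mod Λ X)
    (hM : ∀ p : ℕ, 0 < p → IsZero ((EtCoh.Rpush f p).obj ((F₀ Λ X).obj M))) :
    ∀ p : ℕ, 0 < p → IsZero (((EtModW.push Λ f).rightDerived p).obj M) := by
  intro p hp
  obtain ⟨n, rfl⟩ := Nat.exists_eq_succ_of_ne_zero hp.ne'
  haveI := pushMod_preservesFiniteLimits Λ f
  obtain ⟨_, _, _, _⟩ := EtModAcyc.forget_exact Λ X
  obtain ⟨_, _, _, _⟩ := EtModAcyc.forget_exact Λ Y
  refine BigSiteLib.isZero_rightDerived_of_class (EtModW.push Λ f)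
    (fun M => ∀ p : ℕ, 0 < p → IsZero ((EtCoh.Rpush f p).obj ((F₀ Λ X).obj M))) (fun S hS h2 h1 => ?_) M hM n
  haveI := h2
  have hS' : (S.map (F₀ Λ X)).ShortExact := hS.map_of_exact (F₀ Λ X)
  have hI : ∀ p : ℕ, 0 < p → IsZero ((EtCoh.Rpush f p).obj ((F₀ Λ X).obj S.X₂)) := fun p hp =>
    EtModAcyc.isZero_Rpush_of_flq f _ (EtModAcyc.flq_injective S.X₂) p hp
  haveI : PreservesFiniteLimits (EtCoh.push f) :=
    haveI : (EtCoh.push f).IsRightAdjoint := (EtCoh.pullPushAdj f).isRightAdjoint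
    inferInstance
  refine ⟨?_, fun p hp => ?_⟩
  · haveI : Epi ((EtCoh.push f).map (S.map (F₀ Λ X)).g) :=
      (AcycDef.shortExact_map (EtCoh.push f) hS' (h1 1 one_pos)).epi_g
    haveI : Epi ((F₀ Λ Y).map ((EtModW.push Λ f).map S.g)) :=
      inferInstanceAs (Epi ((EtCoh.push f).map (S.map (F₀ Λ X)).g))
    exact (F₀ Λ Y).epi_of_epi_map this
  · exact (RDerLib.exact₃ (EtCoh.push f) (RDerLib.res hS') p (p + 1) rfl).isZero_of_both_zeros
      ((hI p hp).eq_of_src _ _) ((h1 (p + 1) (by omega)).eq_of_tgt _ _)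

section Etale

variable {X P Q : Scheme.{u}} (j : X ⟶ P) [IsOpenImmersion j] (π : P ⟶ Q) [IsProper π]
  (h : X ⟶ Q) [Etale h] [EtShriek.JCont h] (w : j ≫ π = h)

include w in
theorem isSeparated_comp : IsSeparated h := by
  subst w
  infer_instance

include w in
theorem nonempty_extZero_comp : Nonempty (EtShriek.extZero h ≅ EtShriek.extZero j ⋙ EtCoh.push π) := by
  haveI := isSeparated_comp j π h w
  subst w
  haveI := FpqcDescent.locallyQuasiFinite_of_etale j
  haveI := FpqcDescent.locallyQuasiFinite_of_etale (j ≫ π)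
  obtain ⟨c⟩ := ShriekLQF.nonempty_lowerShriek_comp j π
  obtain ⟨e₁⟩ := ShriekLQF.nonempty_extZero_iso_lowerShriek j
  obtain ⟨e⟩ := ShriekLQF.nonempty_extZero_iso_lowerShriek (j ≫ π)
  exact ⟨e ≪≫ c ≪≫ (Functor.isoWhiskerRight e₁ _).symm⟩

include w in
theorem nonempty_extZeroMod_comp :
    Nonempty (EtDl.extZeroMod Λ h ≅ EtDl.extZeroMod Λ j ⋙ EtModW.push Λ π) := by
  obtain ⟨e⟩ := nonempty_extZero_comp j π h w
  refine ⟨liftIso (isLin_extZero h) ((isLin_extZero j).comp (isLin_push π))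
    ((EtModAcyc.extZeroForgetIso Λ h).symm ≪≫ Functor.isoWhiskerLeft (F₀ Λ X) e ≪≫
      (Functor.associator _ _ _).symm ≪≫ Functor.isoWhiskerRight (EtModAcyc.extZeroForgetIso Λ j) _)⟩

include w in
theorem isZero_Rpush_extZeroMod (n : ℕ) (hn : 0 < n) (hΛ : (n : Λ) = 0) (M : EtModW.Mod Λ X) (p : ℕ) (hp : 0 < p) :
    IsZero (((EtModW.push Λ π).rightDerived p).obj ((EtDl.extZeroMod Λ j).obj M)) := by
  haveI := isSeparated_comp j π h w
  subst w
  haveI := FpqcDescent.locallyQuasiFinite_of_etale j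
  haveI := FpqcDescent.locallyQuasiFinite_of_etale (j ≫ π)
  refine isZero_rightDerived_pushMod Λ π _ (fun q hq => ?_) p hp
  obtain ⟨q, rfl⟩ := Nat.exists_eq_succ_of_ne_zero hq.ne'
  obtain ⟨e₁⟩ := ShriekLQF.nonempty_extZero_iso_lowerShriek j
  exact (EtPBC.isZero_Rpush_lowerShriek j π _ (EtModAcyc.isTorsion_forget Λ n hn hΛ M) q).of_iso
    ((EtCoh.Rpush π _).mapIso (((EtModAcyc.extZeroForgetIso Λ j).app M).symm ≪≫ e₁.app _))

include w in
/-- **`R π_* ∘ j_! = (π j)_!`** on `D⁺` -/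
theorem nonempty_shriekPlus_comp (n : ℕ) (hn : 0 < n) (hΛ : (n : Λ) = 0) :
    Nonempty (EtDl.extZeroPlus Λ j ⋙ EtDl.pushPlus Λ π ≅ EtDl.extZeroPlus Λ h) := by
  obtain ⟨θ⟩ := nonempty_extZeroMod_comp Λ j π h w
  haveI := pushMod_preservesFiniteLimits Λ π
  exact ⟨compPlusIso (fun M _ p hp => isZero_Rpush_extZeroMod Λ j π h w n hn hΛ M p hp) θ⟩

end Etale

/-- direct images compose on `D⁺` -/
theorem nonempty_pushPlus_comp {X Y Z : Scheme.{u}} (f : X ⟶ Y) (g : Y ⟶ Z) (h : X ⟶ Z) (w : f ≫ g = h) :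
    Nonempty (EtDl.pushPlus Λ f ⋙ EtDl.pushPlus Λ g ≅ EtDl.pushPlus Λ h) := by
  subst w
  haveI := RPlusComp.isIso_compMapMod Λ f g
  exact ⟨(asIso (EtSix.compMapMod Λ f g)).symm⟩

/-- the adjunction `f_! ⊣ f^*` on `D⁺` for etale `f` -/
theorem nonempty_extZeroPlus_adj {X Y : Scheme.{u}} (f : X ⟶ Y) [Etale f] [EtShriek.JCont f] :
    Nonempty (EtDl.extZeroPlus Λ f ⊣ EtDl.pullPlus Λ f) := by
  haveI := EtModAcyc.extZeroMod_preservesFiniteLimits Λ f
  haveI : (EtDl.extZeroMod Λ f).IsLeftAdjoint := (EtDl.extZeroModAdj Λ f).isLeftAdjoint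
  exact RPlusComp.nonempty_adjPlus ((EtDl.extZeroModAdj Λ f).ofNatIsoRight (restrPullModIso f))

end Groth.Agent.EtModShriek
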