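import Groth.Agent.EtModAcyc.Amp
import Groth.Agent.EtPushStalk.OpenImm
import Groth.Agent.EtMV.Etale
import Mathlib

/-!
Isomorphisms of `Λ`-linear functors between sheaves of modules can be constructed on underlying abelian sheaves.
-/

set_option autoImplicit false
set_option backward.isDefEq.respectTransparency false
set_option backward.isDefEq.respectTransparency.types false
set_option linter.style.haveILetI false
set_option linter.unusedSectionVars false

universe u

open CategoryTheory CategoryTheory.Limits AlgebraicGeometry Opposite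

noncomputable section

namespace Groth.Agent.EtModShriek

open Groth.Agent.EtModAcyc (F₀)

variable (Λ : Type (u + 1)) [CommRing Λ] {X Y : Scheme.{u}}

/-- multiplication by a scalar -/
def smul' (r : Λ) (M : EtModW.Mod Λ X) : M ⟶ M :=
  ⟨{ app := fun V => ModuleCat.ofHom (LinearMap.lsmul Λ (M.obj.obj V) r)
     naturality := fun V W h => ModuleCat.hom_ext (LinearMap.ext fun x => ((M.obj.map h).hom.map_smul r x).symm) }⟩

theorem smul'_comm (r : Λ) {M N : EtModW.Mod Λ X} (a : M ⟶ N) : smul' Λ r M ≫ a = a ≫ smul' Λ r N :=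
  Sheaf.hom_ext (NatTrans.ext (funext fun V => ModuleCat.hom_ext (LinearMap.ext fun x =>
    (a.hom.app V).hom.map_smul r x)))

variable {Λ}

/-- a functor commuting with scalars -/
def IsLin (A : EtModW.Mod Λ X ⥤ EtModW.Mod Λ Y) : Prop :=
  ∀ (r : Λ) (M : EtModW.Mod Λ X), A.map (smul' Λ r M) = smul' Λ r (A.obj M)

theorem IsLin.comp {Z : Scheme.{u}} {A : EtModW.Mod Λ X ⥤ EtModW.Mod Λ Y} {B : EtModW.Mod Λ Y ⥤ EtModW.Mod Λ Z}
    (hA : IsLin A) (hB : IsLin B) : IsLin (A ⋙ B) := fun r M =>
  (congrArg B.map (hA r M)).trans (hB r (A.obj M))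

theorem isLin_push (f : X ⟶ Y) : IsLin (EtModW.push Λ f) := fun _ _ => rfl

theorem isLin_restr (f : X ⟶ Y) [Etale f] [EtShriek.JCont f] : IsLin (EtDl.restrMod Λ f) := fun _ _ => rfl

/-- left adjoints of linear functors are linear -/
theorem IsLin.of_adj {A : EtModW.Mod Λ X ⥤ EtModW.Mod Λ Y} {B : EtModW.Mod Λ Y ⥤ EtModW.Mod Λ X} (adj : A ⊣ B)
    (hB : IsLin B) : IsLin A := fun r M => by
  apply (adj.homEquiv _ _).injective
  rw [Adjunction.homEquiv_unit, Adjunction.homEquiv_unit, hB r]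
  exact (adj.unit.naturality (smul' Λ r M)).symm.trans (smul'_comm Λ r (adj.unit.app M))

theorem isLin_extZero (f : X ⟶ Y) [Etale f] [EtShriek.JCont f] : IsLin (EtDl.extZeroMod Λ f) :=
  IsLin.of_adj (EtDl.extZeroModAdj Λ f) (isLin_restr f)

theorem isLin_pull (f : X ⟶ Y) : IsLin (EtModW.pull Λ f) :=
  IsLin.of_adj (EtSix.pullPushModAdj Λ f) (isLin_push f)

section Lift

variable {A B : EtModW.Mod Λ X ⥤ EtModW.Mod Λ Y} (hA : IsLin A) (hB : IsLin B)

/-- a natural map of underlying sheaves is linear -/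
def liftApp (e : A ⋙ F₀ Λ Y ⟶ B ⋙ F₀ Λ Y) (M : EtModW.Mod Λ X) : A.obj M ⟶ B.obj M :=
  ⟨{ app := fun V => ModuleCat.ofHom
      { toFun := fun x => ((e.app M).hom.app V).hom x
        map_add' := fun x y => map_add _ x y
        map_smul' := fun r x => by
          have h := congrArg (fun z => (z.hom.app V).hom x) (e.naturality (smul' Λ r M))
          simp only [Functor.comp_map, hA r, hB r] at h
          exact h }
     naturality := fun V W h => ModuleCat.hom_ext (LinearMap.ext fun x =>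
       congrArg (fun z => z.hom x) ((e.app M).hom.naturality h)) }⟩

theorem map_liftApp (e : A ⋙ F₀ Λ Y ⟶ B ⋙ F₀ Λ Y) (M : EtModW.Mod Λ X) :
    (F₀ Λ Y).map (liftApp hA hB e M) = e.app M :=
  Sheaf.hom_ext (NatTrans.ext (funext fun _ => AddCommGrpCat.hom_ext (AddMonoidHom.ext fun _ => rfl)))

/-- the lifted isomorphism -/
def liftIso (e : A ⋙ F₀ Λ Y ≅ B ⋙ F₀ Λ Y) : A ≅ B :=
  haveI := (EtModAcyc.forget_exact Λ Y).2.2.2
  haveI : (F₀ Λ Y).Faithful := ⟨fun {A B} a b h => Sheaf.hom_ext (NatTrans.ext (funext fun U =>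
    (forget₂ (ModuleCat.{u + 1} Λ) AddCommGrpCat.{u + 1}).map_injective
      (congrArg (fun m : (F₀ Λ Y).obj A ⟶ (F₀ Λ Y).obj B => m.hom.app U) h)))⟩
  haveI : ∀ M, IsIso (liftApp hA hB e.hom M) := fun M => by
    haveI : IsIso ((F₀ Λ Y).map (liftApp hA hB e.hom M)) := by
      rw [map_liftApp]; infer_instance
    exact isIso_of_reflects_iso _ (F₀ Λ Y)
  NatIso.ofComponents (fun M => asIso (liftApp hA hB e.hom M)) fun {M N} a => (F₀ Λ Y).map_injective (by
    simp only [Functor.map_comp, asIso_hom, map_liftApp]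
    exact e.hom.naturality a)

end Lift

/-- restriction along an etale morphism is the inverse image -/
def restrPullModIso (f : X ⟶ Y) [Etale f] [EtShriek.JCont f] : EtDl.restrMod Λ f ≅ EtModW.pull Λ f :=
  ((EtPushStalk.compBcAdj f).sheafPushforwardContinuous (E := ModuleCat.{u + 1} Λ) (J := X.smallEtaleTopology)
    (K := Y.smallEtaleTopology)).leftAdjointUniq (EtSix.pullPushModAdj Λ f)

end Groth.Agent.EtModShriek
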