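import Groth.Agent.EtModShriek.CoprodAcyc
import Groth.Agent.EtModShriek.Closed
import Groth.Agent.BrownPlus.Plus
import Groth.Prelude.Def_EtDl
import Mathlib

/-!
`R f_!` on `D⁺` of sheaves of torsion modules has a right adjoint.
-/

set_option autoImplicit false
set_option backward.isDefEq.respectTransparency false
set_option backward.isDefEq.respectTransparency.types false
set_option linter.style.haveILetI false
set_option linter.unusedSectionVars false
set_option linter.overlappingInstances false
set_option maxHeartbeats 1000000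

universe u

open CategoryTheory CategoryTheory.Limits AlgebraicGeometry Opposite

attribute [local instance] HasDerivedCategory.standard

noncomputable section

namespace Groth.Agent.EtModShriek

open Groth.Agent.EtModAcyc (F₀)

variable (Λ : Type (u + 1)) [CommRing Λ] (n : ℕ) (hn : 0 < n) (hΛ : (n : Λ) = 0)

include hn hΛ in
/-- proper direct images on `D⁺` have right adjoints -/
theorem isLeftAdjoint_pushPlus {X Y : Scheme.{u}} [CompactSpace ↥Y] (p : X ⟶ Y) [IsProper p] :
    (EtDl.pushPlus Λ p).IsLeftAdjoint := by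
  haveI : CompactSpace ↥X := QuasiCompact.compactSpace_of_compactSpace p
  obtain ⟨d, hd⟩ := EtRshriek.exists_fibre_bound p
  haveI := pushMod_preservesFiniteLimits Λ p
  haveI := RPlusComp.pullMod_preservesFiniteLimits Λ p
  let ec : EtShriek.compEtale (𝟙 X) ≅ 𝟭 X.Etale := MorphismProperty.Over.mapId (P := EtCoh.etaleMP) (Q := ⊤) X
  let r : EtShriek.extZero (𝟙 X) ≅ 𝟭 (EtCoh.Ab X) :=
    (EtShriek.extZeroAdj (𝟙 X)).leftAdjointUniq (Adjunction.id.ofNatIsoRight
      (Functor.sheafPushforwardContinuousId' ec AddCommGrpCat.{u + 1} X.smallEtaleTopology).symm)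
  refine BrownPlus.isLeftAdjoint_rightDerivedPlus (EtModW.push Λ p) (EtSix.pullPushModAdj Λ p)
    (fun T => pushMod_preservesCoproducts Λ p T) (fun T I hI => acyc_coprod_injective Λ p T I hI) (2 * d)
    fun M q hq => isZero_rightDerived_pushMod_above Λ p (2 * d) M (fun q hq => ?_) q hq
  refine (EtPBC.isZero_Rpush_extZero (𝟙 X) p d (by rw [Category.id_comp]; exact hd) _
    (EtModAcyc.isTorsion_forget Λ n hn hΛ M) q hq).of_iso ((EtCoh.Rpush p q).mapIso (r.app _).symm)

include hn hΛ in
/-- **existence of `R f^!`** -/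
theorem isLeftAdjoint_RshriekPlus {X S : Scheme.{u}} [CompactSpace ↥S] {f : X ⟶ S}
    (c : DEt.Compactification f) : (EtDl.RshriekPlus Λ c).IsLeftAdjoint := by
  haveI := c.isOpenImmersion
  haveI := c.isProper
  haveI := isLeftAdjoint_pushPlus Λ n hn hΛ c.fbar
  obtain ⟨adj⟩ := nonempty_extZeroPlus_adj Λ c.j
  haveI : (EtDl.extZeroPlus Λ c.j).IsLeftAdjoint := adj.isLeftAdjoint
  exact inferInstanceAs ((EtDl.extZeroPlus Λ c.j ⋙ EtDl.pushPlus Λ c.fbar).IsLeftAdjoint)

end Groth.Agent.EtModShriek
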