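import Groth.Agent.EtModShriek.Comp
import Groth.Agent.EtModAcyc.Forget
import Groth.Agent.EtRshriek.Coprod
import Groth.Agent.EtPBC.ShriekProperDim
import Groth.Agent.EtRshriek.Bound
import Groth.Agent.BigPBC.Shift
import Mathlib

/-!
Direct images of sheaves of modules along qcqs morphisms: coproducts, cohomological dimension.
-/

set_option autoImplicit false
set_option backward.isDefEq.respectTransparency false
set_option backward.isDefEq.respectTransparency.types false
set_option linter.style.haveILetI false
set_option linter.unusedSectionVars false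
set_option linter.overlappingInstances false
set_option maxHeartbeats 1000000

universe u

open CategoryTheory CategoryTheory.Limits AlgebraicGeometry Opposite

noncomputable section

namespace Groth.Agent.EtModShriek

open Groth.Agent.EtModAcyc (F₀)

variable (Λ : Type (u + 1)) [CommRing Λ]

/-- forgetting the module structure commutes with colimits -/
def forgetCoextAdj (X : Scheme.{u}) :
    sheafCompose X.smallEtaleTopology (forget₂ (ModuleCat.{u + 1} Λ) AddCommGrpCat.{u + 1}) ⊣
      sheafCompose X.smallEtaleTopology (ModCstAcyc.coext Λ) :=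
  ((ModCstAcyc.coextAdj Λ).whiskerRight X.Etaleᵒᵖ).restrictFullyFaithful
    (fullyFaithfulSheafToPresheaf _ _) (fullyFaithfulSheafToPresheaf _ _) (Iso.refl _) (Iso.refl _)

theorem forget_preservesCoproducts (X : Scheme.{u}) (T : Type (u + 1)) :
    PreservesColimitsOfShape (Discrete T) (F₀ Λ X) := by
  haveI : (F₀ Λ X).IsLeftAdjoint := (forgetCoextAdj Λ X).isLeftAdjoint
  infer_instance

variable {X Y : Scheme.{u}} (f : X ⟶ Y) [QuasiCompact f] [QuasiSeparated f]

theorem push_preservesFiniteLimits : PreservesFiniteLimits (EtCoh.push f) :=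
  haveI : (EtCoh.push f).IsRightAdjoint := (EtCoh.pullPushAdj f).isRightAdjoint
  inferInstance

/-- coproducts of acyclic abelian sheaves are acyclic -/
theorem isZero_Rpush_coprod (T : Type (u + 1)) : ∀ (p : ℕ) (F : T → EtCoh.Ab X),
    (∀ t, ∀ q : ℕ, 0 < q → IsZero ((EtCoh.Rpush f q).obj (F t))) →
      IsZero ((EtCoh.Rpush f (p + 1)).obj (∐ F)) := by
  haveI := push_preservesFiniteLimits f
  haveI := EtRshriek.preservesCoproducts_push f T
  intro p
  induction p using Nat.strong_induction_on with
  | _ p ih =>
    intro F hF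
    let I : T → EtCoh.Ab X := fun t => Injective.under (F t)
    let Qt : T → EtCoh.Ab X := fun t => cokernel (Injective.ι (F t))
    have hst : ∀ t, (ShortComplex.mk (Injective.ι (F t)) (cokernel.π _) (cokernel.condition _)).ShortExact :=
      fun t => { exact := ShortComplex.exact_of_g_is_cokernel _ (cokernelIsCokernel _) }
    let S : ShortComplex (EtCoh.Ab X) := ShortComplex.mk (Limits.Sigma.map fun t => Injective.ι (F t))
      (Limits.Sigma.map fun t => cokernel.π (Injective.ι (F t)))
      (Sigma.hom_ext _ _ fun t => by simp)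
    haveI : AB4OfSize.{u + 1} (EtCoh.Ab X) := inferInstance
    let D : ShortComplex (Discrete T ⥤ EtCoh.Ab X) := ShortComplex.mk
      (Discrete.natTrans fun t => Injective.ι (F t.as) : Discrete.functor F ⟶ Discrete.functor I)
      (Discrete.natTrans fun t => cokernel.π (Injective.ι (F t.as)) : Discrete.functor I ⟶ Discrete.functor Qt)
      (NatTrans.ext (funext fun t => cokernel.condition _))
    have hD : D.ShortExact := by
      haveI : ∀ t, Mono (D.f.app t) := fun t => inferInstanceAs (Mono (Injective.ι (F t.as)))
      haveI : ∀ t, Epi (D.g.app t) := fun t => inferInstanceAs (Epi (cokernel.π (Injective.ι (F t.as))))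
      haveI : Mono D.f := NatTrans.mono_of_mono_app _
      haveI : Epi D.g := NatTrans.epi_of_epi_app _
      refine { exact := ?_ }
      rw [ShortComplex.exact_iff_isZero_homology, Functor.isZero_iff]
      exact fun t => ((ShortComplex.exact_iff_isZero_homology _).1
        (show (D.map ((evaluation (Discrete T) (EtCoh.Ab X)).obj t)).Exact from (hst t.as).exact)).of_iso
          (D.mapHomologyIso ((evaluation (Discrete T) (EtCoh.Ab X)).obj t)).symm
    have hS : S.ShortExact := hD.map_of_exact (colim : (Discrete T ⥤ EtCoh.Ab X) ⥤ EtCoh.Ab X)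
    have hI : ∀ q : ℕ, 0 < q → IsZero ((EtCoh.Rpush f q).obj S.X₂) := fun q hq => by
      obtain ⟨m, rfl⟩ := Nat.exists_eq_succ_of_ne_zero hq.ne'
      exact EtColimH.isZero_rpush_of_cac f m _ (EtRshriek.cac_coprod_injective T I)
    have hQ : ∀ t, ∀ q : ℕ, 0 < q → IsZero ((EtCoh.Rpush f q).obj (Qt t)) := fun t q hq =>
      AcycDef.isZero_quot (EtCoh.push f) (hst t)
        (fun i hi => EtModAcyc.isZero_Rpush_of_flq f _ (EtMV.flq_of_injective (I t)) i hi) hq (hF t (q + 1) (by omega))
    cases p with
    | zero =>
      haveI : ∀ t, Epi ((EtCoh.push f).map (cokernel.π (Injective.ι (F t)))) := fun t =>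
        (AcycDef.shortExact_map (EtCoh.push f) (hst t) (hF t 1 one_pos)).epi_g
      haveI : Epi ((EtCoh.push f).map S.g) := by
        refine ⟨fun {Z} a b e => ?_⟩
        refine Cofan.IsColimit.hom_ext (isColimitCofanMkObjOfIsColimit (EtCoh.push f) Qt _ (coproductIsCoproduct Qt))
          _ _ fun t => ?_
        rw [← cancel_epi ((EtCoh.push f).map (cokernel.π (Injective.ι (F t))))]
        have h1 : Sigma.ι I t ≫ S.g = cokernel.π (Injective.ι (F t)) ≫ Sigma.ι Qt t :=
          Sigma.ι_map (fun t => cokernel.π (Injective.ι (F t))) t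
        have h2 := congrArg ((EtCoh.push f).map (Sigma.ι I t) ≫ ·) e
        rw [← Category.assoc, ← Category.assoc, ← Functor.map_comp, h1, Functor.map_comp, Category.assoc,
          Category.assoc] at h2
        exact h2
      exact BigPBC.isZero_one (EtCoh.push f) hS (hI 1 one_pos)
    | succ p =>
      exact AcycDef.isZero_sub (EtCoh.push f) hS
        (ih p (Nat.lt_succ_self p) Qt hQ) (hI (p + 1 + 1) (by omega))

/-- coproducts of injective sheaves of modules are acyclic -/
theorem acyc_coprod_injective (T : Type (u + 1)) (I : T → EtModW.Mod Λ X) (hI : ∀ t, Injective (I t)) :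
    AcycDef.Acyc (EtModW.push Λ f) (∐ I) := by
  refine isZero_rightDerived_pushMod Λ f _ fun p hp => ?_
  obtain ⟨m, rfl⟩ := Nat.exists_eq_succ_of_ne_zero hp.ne'
  haveI := forget_preservesCoproducts Λ X T
  exact (isZero_Rpush_coprod f T m (fun t => (F₀ Λ X).obj (I t)) fun t q hq =>
    haveI := hI t
    EtModAcyc.isZero_Rpush_of_flq f _ (EtModAcyc.flq_injective (I t)) q hq).of_iso
      ((EtCoh.Rpush f _).mapIso (PreservesCoproduct.iso (F₀ Λ X) I))

theorem pushMod_preservesCoproducts (T : Type (u + 1)) :
    PreservesColimitsOfShape (Discrete T) (EtModW.push Λ f) := by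
  haveI := forget_preservesCoproducts Λ X T
  haveI := forget_preservesCoproducts Λ Y T
  haveI := EtRshriek.preservesCoproducts_push f T
  haveI := (EtModAcyc.forget_exact Λ Y).2.2.2
  haveI : PreservesColimitsOfShape (Discrete T) (EtModW.push Λ f ⋙ F₀ Λ Y) :=
    inferInstanceAs (PreservesColimitsOfShape (Discrete T) (F₀ Λ X ⋙ EtCoh.push f))
  haveI : ReflectsColimitsOfShape (Discrete T) (F₀ Λ Y) := reflectsColimitsOfShape_of_reflectsIsomorphisms
  exact preservesColimitsOfShape_of_reflects_of_preserves _ (F₀ Λ Y)

omit [QuasiCompact f] [QuasiSeparated f] in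
/-- vanishing of higher direct images of modules from that of abelian sheaves -/
theorem isZero_rightDerived_pushMod_above : ∀ (N : ℕ) (M : EtModW.Mod Λ X),
    (∀ p : ℕ, N < p → IsZero ((EtCoh.Rpush f p).obj ((F₀ Λ X).obj M))) →
      ∀ p : ℕ, N < p → IsZero (((EtModW.push Λ f).rightDerived p).obj M) := by
  intro N
  induction N with
  | zero => exact fun M h p hp => isZero_rightDerived_pushMod Λ f M h p hp
  | succ N ih =>
    intro M h p hp
    obtain ⟨q, rfl⟩ : ∃ q, p = q + 1 := ⟨p - 1, by omega⟩
    haveI := push_preservesFiniteLimits' f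
    obtain ⟨_, _, _, _⟩ := EtModAcyc.forget_exact Λ X
    let ι := Injective.ι M
    have hS : (ShortComplex.mk ι (cokernel.π ι) (cokernel.condition ι)).ShortExact :=
      { exact := ShortComplex.exact_of_g_is_cokernel _ (cokernelIsCokernel _) }
    have hS' := hS.map_of_exact (F₀ Λ X)
    refine AcycDef.isZero_sub (EtModW.push Λ f) hS (ih _ (fun r hr => ?_) q (by omega))
      (AcycDef.acyc_injective _ (Injective.under M) _ (Nat.succ_pos _))
    exact AcycDef.isZero_quot (EtCoh.push f) hS'
      (fun i hi => EtModAcyc.isZero_Rpush_of_flq f _ (EtModAcyc.flq_injective (Injective.under M)) i hi)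
      (by omega) (h (r + 1) (by omega))
where
  push_preservesFiniteLimits' {A B : Scheme.{u}} (g : A ⟶ B) : PreservesFiniteLimits (EtCoh.push g) :=
    haveI : (EtCoh.push g).IsRightAdjoint := (EtCoh.pullPushAdj g).isRightAdjoint
    inferInstance

end Groth.Agent.EtModShriek
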