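import Groth.Agent.EtModShriek.Comp
import Groth.Agent.Compactif.Basic
import Mathlib

/-!
`R f_!` on `D⁺` of sheaves of modules does not depend on the compactification.
-/

set_option autoImplicit false
set_option backward.isDefEq.respectTransparency false
set_option backward.isDefEq.respectTransparency.types false
set_option linter.style.haveILetI false
set_option linter.unusedSectionVars false
set_option linter.overlappingInstances false
set_option maxHeartbeats 1000000

universe u

open CategoryTheory CategoryTheory.Limits AlgebraicGeometry Opposite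

attribute [local instance] HasDerivedCategory.standard

noncomputable section

namespace Groth.Agent.EtModShriek

variable (Λ : Type (u + 1)) [CommRing Λ] (n : ℕ) (hn : 0 < n) (hΛ : (n : Λ) = 0)

include hn hΛ in
/-- a compactification dominating another computes the same functor -/
theorem nonempty_dominated {X Y : Scheme.{u}} {f : X ⟶ Y} (c d : DEt.Compactification f) (p : d.Xbar ⟶ c.Xbar)
    [IsProper p] (hj : d.j ≫ p = c.j) (hf : p ≫ c.fbar = d.fbar) :
    Nonempty (EtDl.RshriekPlus Λ c ≅ EtDl.RshriekPlus Λ d) := by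
  haveI := c.isOpenImmersion
  haveI := d.isOpenImmersion
  obtain ⟨e⟩ := nonempty_shriekPlus_comp Λ d.j p c.j hj n hn hΛ
  obtain ⟨e'⟩ := nonempty_pushPlus_comp Λ p c.fbar d.fbar hf
  exact ⟨Functor.isoWhiskerRight e.symm _ ≪≫ Functor.associator _ _ _ ≪≫ Functor.isoWhiskerLeft _ e'⟩

include hn hΛ in
/-- **independence of the compactification** -/
theorem nonempty_indep {X Y : Scheme.{u}} [CompactSpace ↥X] [QuasiSeparatedSpace ↥Y] {f : X ⟶ Y}
    (c c' : DEt.Compactification f) : Nonempty (EtDl.RshriekPlus Λ c ≅ EtDl.RshriekPlus Λ c') := by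
  obtain ⟨d, p₁, p₂, h₁, h₂, hj₁, hj₂, hf₁, hf₂⟩ := Compactif.exists_dominating c c'
  obtain ⟨e₁⟩ := nonempty_dominated Λ n hn hΛ c d p₁ hj₁ hf₁
  obtain ⟨e₂⟩ := nonempty_dominated Λ n hn hΛ c' d p₂ hj₂ hf₂
  exact ⟨e₁ ≪≫ e₂.symm⟩

include hn hΛ in
/-- for etale `f`, `R f_! ⊣ f^*` -/
theorem nonempty_adj_etale {X S : Scheme.{u}} {f : X ⟶ S} [Etale f] (c : DEt.Compactification f) :
    Nonempty (EtDl.RshriekPlus Λ c ⊣ EtDl.pullPlus Λ f) := by
  haveI := c.isOpenImmersion
  haveI := c.isProper
  haveI := EtMV.jcont_etale f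
  obtain ⟨adj⟩ := nonempty_extZeroPlus_adj Λ f
  obtain ⟨e⟩ := nonempty_shriekPlus_comp Λ c.j c.fbar f c.fac n hn hΛ
  exact ⟨adj.ofNatIsoLeft e.symm⟩

end Groth.Agent.EtModShriek
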