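import Groth.Agent.EtModAcyc.Amp
import Groth.Agent.EtRshriek.Bound
import Mathlib

/-!
Injective amplitude of a right adjoint of `R f_!`.
-/

set_option autoImplicit false
set_option backward.isDefEq.respectTransparency false
set_option backward.isDefEq.respectTransparency.types false
set_option linter.style.haveILetI false
set_option linter.unusedSectionVars false
set_option linter.overlappingInstances false
set_option maxHeartbeats 1000000

universe u w v

open CategoryTheory CategoryTheory.Limits CategoryTheory.Pretriangulated AlgebraicGeometry Opposite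

attribute [local instance] HasDerivedCategory.standard

noncomputable section

namespace Groth.Agent.EtModShriek

section General

variable {A : Type w} [Category.{v} A] [Abelian A]

/-- maps out of bounded objects in degrees `> m` into an object of injective amplitude `≤ m` vanish -/
theorem hom_eq_zero_of_amp (L : DerivedCategory.Plus A) (m : ℤ)
    (hL : ∀ (F : A) (i : ℤ), m < i → Subsingleton ((DerivedCategory.Plus.singleFunctor A 0).obj F ⟶ L⟦i⟧)) :
    ∀ (k : ℕ) (M : DerivedCategory.Plus A) (a b : ℤ), m < a → b + 1 ≤ a + k → M.IsGE a → M.IsLE b →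
      ∀ φ : M ⟶ L, φ = 0 := by
  intro k
  induction k with
  | zero =>
    intro M a b _ hk ha hb φ
    haveI := ha
    haveI := hb
    exact (DerivedCategory.Plus.TStructure.t.isZero M b a (by omega)).eq_of_src _ _
  | succ k ih =>
    intro M a b hma hk ha hb φ
    haveI := ha
    haveI := hb
    by_cases hab : b < a
    · exact (DerivedCategory.Plus.TStructure.t.isZero M b a hab).eq_of_src _ _
    obtain ⟨U, V, hU, hV, f, g, δ, hT⟩ := DerivedCategory.Plus.TStructure.t.exists_triangle M (b - 1) b (by omega)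
    let t := DerivedCategory.Plus.TStructure.t (C := A)
    haveI hU' : t.IsLE U (b - 1) := ⟨hU⟩
    haveI hV' : t.IsGE V b := ⟨hV⟩
    have hVle : t.IsLE V b := by
      haveI := t.isLE_shift U (b - 1) 1 (b - 1 - 1) (by omega)
      exact t.isLE₂ _ (rot_of_distTriang _ hT) b (show t.IsLE M b from hb)
        (t.isLE_of_le (U⟦(1 : ℤ)⟧) (b - 1 - 1) b (by omega))
    have hUge : t.IsGE U a := by
      haveI := t.isGE_shift V b (-1) (b + 1) (by omega)
      exact t.isGE₂ _ (inv_rot_of_distTriang _ hT) a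
        (t.isGE_of_ge (V⟦(-1 : ℤ)⟧) a (b + 1) (by omega)) (show t.IsGE M a from ha)
    have h1 : f ≫ φ = 0 := ih U a (b - 1) hma (by omega) hUge hU' _
    obtain ⟨ψ, hψ⟩ := Triangle.yoneda_exact₂ _ hT φ h1
    suffices ψ = 0 by rw [hψ, this]; exact comp_zero
    haveI : (DerivedCategory.Plus.ι.obj V).IsGE b := (DerivedCategory.Plus.isGE_ι_obj_iff V b).2 hV'
    haveI : (DerivedCategory.Plus.ι.obj V).IsLE b := (DerivedCategory.Plus.isLE_ι_obj_iff V b).2 hVle
    obtain ⟨F, ⟨e⟩⟩ := DerivedCategory.exists_iso_singleFunctor_obj_of_isGE_of_isLE (DerivedCategory.Plus.ι.obj V) b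
    let X₀ := (DerivedCategory.Plus.singleFunctor A 0).obj F
    let e' : V ≅ X₀⟦(-b : ℤ)⟧ := (ObjectProperty.fullyFaithfulι _).preimageIso
      (e ≪≫ (((DerivedCategory.singleFunctors A).shiftIso (-b) b 0 (by omega)).app F).symm ≪≫
        ((DerivedCategory.Plus.ι.commShiftIso (-b)).app X₀).symm)
    rw [← cancel_epi e'.inv, comp_zero]
    apply (((shiftEquiv (DerivedCategory.Plus A) b).symm.toAdjunction).homEquiv X₀ L).injective
    exact (hL F b (by omega)).elim _ _

end General

variable (Λ : Type (u + 1)) [CommRing Λ]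

/-- `R f_!` preserves lower bounds -/
theorem isGE_RshriekPlus {X S : Scheme.{u}} {f : X ⟶ S} (c : DEt.Compactification f)
    (K : DerivedCategory.Plus (EtModW.Mod Λ X)) (a : ℤ) (hK : K.IsGE a) :
    ((EtDl.RshriekPlus Λ c).obj K).IsGE a := by
  haveI := c.isOpenImmersion
  haveI := EtModAcyc.extZeroMod_preservesFiniteLimits Λ c.j
  haveI : PreservesFiniteColimits (EtDl.extZeroMod Λ c.j) :=
    haveI : (EtDl.extZeroMod Λ c.j).IsLeftAdjoint := (EtDl.extZeroModAdj Λ c.j).isLeftAdjoint
    inferInstance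
  haveI := hK
  obtain ⟨L₀, hL₀, ⟨e⟩⟩ := DerivedCategory.Plus.exists_injective_nonempty_iso K a
  let I := (InjectiveObject.ι (EtModW.Mod Λ X)).mapCochainComplexPlus.obj L₀
  haveI : I.obj.IsStrictlyGE a :=
    (CochainComplex.isStrictlyGE_mapHomologicalComplex_obj_iff L₀.obj (InjectiveObject.ι _) a).2 hL₀
  let jI := (EtDl.extZeroMod Λ c.j).mapCochainComplexPlus.obj I
  haveI : jI.obj.IsStrictlyGE a :=
    inferInstanceAs (CochainComplex.IsStrictlyGE (((EtDl.extZeroMod Λ c.j).mapHomologicalComplex _).obj I.obj) a)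
  obtain ⟨J₀, hJ₀, s, hs⟩ := CochainComplex.Plus.exists_quasiIso_injective jI a
  let J := (InjectiveObject.ι (EtModW.Mod Λ c.Xbar)).mapCochainComplexPlus.obj J₀
  haveI : J.obj.IsStrictlyGE a :=
    (CochainComplex.isStrictlyGE_mapHomologicalComplex_obj_iff J₀.obj (InjectiveObject.ι _) a).2 hJ₀
  haveI : IsIso (DerivedCategory.Plus.Qh.map ((HomotopyCategory.Plus.quotient _).map s)) :=
    (DerPlus.isIso_Qh_map_plus_iff s).2 hs
  haveI : IsIso ((EtModW.push Λ c.fbar).rightDerivedFunctorPlusUnit.app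
      ((HomotopyCategory.Plus.quotient _).obj J)) := inferInstance
  let pJ := (EtModW.push Λ c.fbar).mapCochainComplexPlus.obj J
  haveI : pJ.obj.IsStrictlyGE a :=
    inferInstanceAs (CochainComplex.IsStrictlyGE (((EtModW.push Λ c.fbar).mapHomologicalComplex _).obj J.obj) a)
  let e' : (EtDl.RshriekPlus Λ c).obj K ≅ DerivedCategory.Plus.Qh.obj ((HomotopyCategory.Plus.quotient _).obj pJ) :=
    (EtDl.RshriekPlus Λ c).mapIso e.symm ≪≫
      (EtDl.pushPlus Λ c.fbar).mapIso
        ((DerPlusBC.fac (EtDl.extZeroMod Λ c.j)).app ((HomotopyCategory.Plus.quotient _).obj I) ≪≫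
          asIso (DerivedCategory.Plus.Qh.map ((HomotopyCategory.Plus.quotient _).map s))) ≪≫
      (asIso ((EtModW.push Λ c.fbar).rightDerivedFunctorPlusUnit.app
        ((HomotopyCategory.Plus.quotient _).obj J))).symm
  rw [← DerivedCategory.Plus.isGE_ι_obj_iff]
  exact DerivedCategory.TStructure.t.isGE_of_iso
    ((DerivedCategory.Plus.ι.mapIso e' ≪≫ (DerivedCategory.quotientCompQhIso _).app pJ.obj).symm) a

/-- **injective amplitude of `R f^!`** -/
theorem subsingleton_upperShriek {X S : Scheme.{u}} [CompactSpace ↥X] {f : X ⟶ S} (c : DEt.Compactification f)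
    (n : ℕ) (hn : 0 < n) (hΛ : (n : Λ) = 0)
    (G : DerivedCategory.Plus (EtModW.Mod Λ S) ⥤ DerivedCategory.Plus (EtModW.Mod Λ X))
    (adj : EtDl.RshriekPlus Λ c ⊣ G) (L : DerivedCategory.Plus (EtModW.Mod Λ S)) (m : ℤ)
    (hL : ∀ (F : EtModW.Mod Λ S) (i : ℤ), m < i →
      Subsingleton ((DerivedCategory.Plus.singleFunctor (EtModW.Mod Λ S) 0).obj F ⟶ L⟦i⟧))
    (F : EtModW.Mod Λ X) (i : ℤ) (hi : m < i) :
    Subsingleton ((DerivedCategory.Plus.singleFunctor (EtModW.Mod Λ X) 0).obj F ⟶ (G.obj L)⟦i⟧) := by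
  haveI := c.isOpenImmersion
  haveI := c.isProper
  haveI : LocallyOfFiniteType f := by rw [← c.fac]; infer_instance
  obtain ⟨d, hd⟩ := EtRshriek.exists_fibre_bound f
  let t := DerivedCategory.Plus.TStructure.t (C := EtModW.Mod Λ X)
  let X₀ := (DerivedCategory.Plus.singleFunctor (EtModW.Mod Λ X) 0).obj F
  haveI : t.IsGE X₀ 0 := inferInstanceAs (X₀.IsGE 0)
  haveI : t.IsLE X₀ 0 := inferInstanceAs (X₀.IsLE 0)
  have hge := isGE_RshriekPlus Λ c (X₀⟦(-i : ℤ)⟧) i (t.isGE_shift X₀ 0 (-i) i (by omega))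
  have hle := EtModAcyc.isLE_RshriekPlus Λ c d hd n hn hΛ (X₀⟦(-i : ℤ)⟧) i (t.isLE_shift X₀ 0 (-i) i (by omega))
  let E := ((shiftEquiv (DerivedCategory.Plus (EtModW.Mod Λ X)) i).symm.toAdjunction.homEquiv X₀ (G.obj L)).symm.trans
    (adj.homEquiv _ L).symm
  refine ⟨fun x y => E.injective ?_⟩
  have h0 := hom_eq_zero_of_amp L m hL (2 * d + 1) ((EtDl.RshriekPlus Λ c).obj (X₀⟦(-i : ℤ)⟧)) i
    (i + 2 * (d : ℤ)) hi (by omega) hge hle
  rw [h0 (E x), h0 (E y)]

end Groth.Agent.EtModShriek
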